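import Groth.Agent.S0598
import Groth.Agent.S0599
import Groth.Agent.S0600
import Groth.Agent.S0595
import Groth.Agent.S0543
import Groth.Agent.Ega4C.GeomCompReg
import Groth.Agent.CalgC.IndEtale
import Mathlib.RingTheory.MvPowerSeries.Equiv

/-!
# Power series over a complete local ring are ind-smooth over étale neighbourhoods of affine space
-/

set_option autoImplicit false
universe u

namespace Groth.Agent.Sga2lef.H90.PowInd

open Groth.Agent.CalgC.IndEtale IsLocalRing

/-- Popescu's theorem: regular homomorphisms of Noetherian rings are ind-smooth. -/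
theorem isIndSmooth_of_isRegularHom {A B : Type u} [CommRing A] [CommRing B] [IsNoetherianRing A]
    [IsNoetherianRing B] [Algebra A B] (h : CAlg.IsRegularHom A B) : IsIndSmooth A B := by
  intro P _ _ _ φ
  obtain ⟨C, _, _, h1, g, k, hk⟩ := Groth.Agent.S0595.result A B h P φ
  exact ⟨C, _, _, h1, g, k, hk⟩

theorem isRegularHom_mvPowerSeries {A : Type u} [CommRing A] (hA : CAlg.IsGRing A) (d : ℕ) :
    CAlg.IsRegularHom (MvPolynomial (Fin d) A) (MvPowerSeries (Fin d) A) := by
  have h1 : CAlg.IsGRing (MvPolynomial (Fin d) A) := Groth.Agent.S0599.result A hA _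
  have h2 := Groth.Agent.S0600.result _ h1 (MvPolynomial.idealOfVars (Fin d) A)
  exact Groth.Agent.Ega4C.GeomCompReg.isRegularHom_of_algEquiv _ _ _
    (MvPowerSeries.toAdicCompletionAlgEquiv (Fin d) A).symm h2

theorem isNoetherianRing_mvPowerSeries {A : Type u} [CommRing A] [IsNoetherianRing A] (d : ℕ) :
    IsNoetherianRing (MvPowerSeries (Fin d) A) := by
  have h2 : IsNoetherianRing (AdicCompletion (MvPolynomial.idealOfVars (Fin d) A)
    (MvPolynomial (Fin d) A)) := Groth.Agent.S0543.result _ _
  exact isNoetherianRing_of_ringEquiv _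
    (MvPowerSeries.toAdicCompletionAlgEquiv (Fin d) A).symm.toRingEquiv

/-- Power series over a G-ring are ind-smooth over polynomials. -/
theorem isIndSmooth_mvPowerSeries {A : Type u} [CommRing A] (hA : CAlg.IsGRing A) (d : ℕ) :
    IsIndSmooth (MvPolynomial (Fin d) A) (MvPowerSeries (Fin d) A) := by
  have : IsNoetherianRing A := hA.1
  have := isNoetherianRing_mvPowerSeries (A := A) d
  exact isIndSmooth_of_isRegularHom (isRegularHom_mvPowerSeries hA d)

/-- Power series over a complete Noetherian local ring are ind-smooth over every étale algebra over the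
polynomial ring which maps to them. -/
theorem isIndSmooth_of_etale {A : Type u} [CommRing A] [IsLocalRing A] [IsNoetherianRing A]
    [IsAdicComplete (maximalIdeal A) A] (d : ℕ) (C : Type u) [CommRing C]
    [Algebra (MvPolynomial (Fin d) A) C] [Algebra.Etale (MvPolynomial (Fin d) A) C]
    [Algebra C (MvPowerSeries (Fin d) A)]
    [IsScalarTower (MvPolynomial (Fin d) A) C (MvPowerSeries (Fin d) A)] :
    IsIndSmooth C (MvPowerSeries (Fin d) A) := by
  have h1 : IsIndEtale (MvPolynomial (Fin d) A) C := IsInd.of_self (Q := fun A E _ _ _ => Algebra.Etale A E) ‹_›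
  exact IsInd.cancel isGood_smooth h1
    (isIndSmooth_mvPowerSeries (Groth.Agent.S0598.result A) d)

end Groth.Agent.Sga2lef.H90.PowInd
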