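import Groth.Agent.Sga2lef.H90.ClopenGlob
import Groth.Agent.Sga2lef.H89.HtpCore

/-!
# Homotopic depth at least three from local purity and local connectedness
-/

set_option autoImplicit false
universe u

open CategoryTheory CategoryTheory.Limits AlgebraicGeometry

namespace Groth.Agent.Sga2lef.H90.Glob

open Groth.Agent

theorem isEquivalence_of_noetherian {X Z : Scheme.{u}} (U : X.Opens)
    (h : ∀ (X' : Scheme.{u}) (g : X' ⟶ X) [Etale g] (x : X'), g x ∉ U →
      FEt.PurityHolds (X'.presheaf.stalk x) ∧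
      ConnectedSpace (FEt.puncturedSpec (X'.presheaf.stalk x) : Scheme.{u}))
    [IsNoetherian Z] (g : Z ⟶ X) [Etale g] : (FEt.restrict (g ⁻¹ᵁ U).ι).IsEquivalence := by
  have h1 : (FEt.restrict (g ⁻¹ᵁ U).ι).Full ∧ (FEt.restrict (g ⁻¹ᵁ U).ι).Faithful := by
    refine ClopenGlob.fullyFaithful_of_connected _ fun T t ht => ?_
    have : Etale T.hom := T.prop.2
    have : Etale (Y := Z) (X := T.left) T.hom := T.prop.2
    have : Etale ((T.hom : T.left ⟶ Z) ≫ g) := inferInstance
    refine (h T.left ((T.hom : T.left ⟶ Z) ≫ g) t fun h2 => ht ?_).2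
    rw [Scheme.Opens.range_ι]
    rw [Scheme.Hom.comp_apply] at h2
    exact h2
  have h2 : (FEt.restrict (g ⁻¹ᵁ U).ι).EssSurj := S0250.result _ fun x hx => (h Z g x hx).1
  exact { full := h1.1, faithful := h1.2, essSurj := h2 }

/-- Homotopic depth at least three from purity and connectedness of the punctured spectra of the local
rings of étale neighbourhoods. -/
theorem htpDepthGE3_of_local {X U : Scheme.{u}} [IsLocallyNoetherian X] (j : U ⟶ X)
    [IsOpenImmersion j]
    (h : ∀ (X' : Scheme.{u}) (g : X' ⟶ X) [Etale g] (x : X'), g x ∉ Set.range j →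
      FEt.PurityHolds (X'.presheaf.stalk x) ∧
      ConnectedSpace (FEt.puncturedSpec (X'.presheaf.stalk x) : Scheme.{u})) :
    EtDepth.HtpDepthGE3 j := by
  intro X' g _
  have : IsLocallyNoetherian X' := LocallyOfFiniteType.isLocallyNoetherian g
  have h' : ∀ (X' : Scheme.{u}) (g : X' ⟶ X) [Etale g] (x : X'), g x ∉ j.opensRange →
      FEt.PurityHolds (X'.presheaf.stalk x) ∧
      ConnectedSpace (FEt.puncturedSpec (X'.presheaf.stalk x) : Scheme.{u}) :=
    fun X' g _ x hx => h X' g x fun h1 => hx h1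
  have key : (FEt.restrict (g ⁻¹ᵁ j.opensRange).ι).IsEquivalence := by
    refine Pi1A.FEtGlue.isEquivalence_of_affineOpens _ fun T => ?_
    have hN : IsNoetherian (Spec Γ(X', T.1)) := by
      have : IsLocallyNoetherian (Spec Γ(X', T.1)) :=
        isLocallyNoetherian_of_isOpenImmersion T.2.fromSpec
      exact {}
    have key : (FEt.restrict ((T.2.fromSpec ≫ g) ⁻¹ᵁ j.opensRange).ι).IsEquivalence :=
      isEquivalence_of_noetherian j.opensRange h' (T.2.fromSpec ≫ g)
    refine Pi1A.FEtGlue.isEquivalence_of_arrowIso ?_ key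
    exact Sga2.PureDescent.arrowIso
      (Sga2.PureDescent.isPullback_preimage (g ⁻¹ᵁ j.opensRange).ι T.1).flip
      (Sga2.PureDescent.isPullback_preimage T.2.fromSpec (g ⁻¹ᵁ j.opensRange)) T.2.isoSpec (by simp)
  refine Pi1A.FEtGlue.isEquivalence_of_arrowIso ?_ key
  have h1 : IsPullback (pullback.fst j g ≫ j.isoOpensRange.hom) (pullback.snd j g) j.opensRange.ι g :=
    (IsPullback.of_hasPullback j g).of_iso (Iso.refl _) j.isoOpensRange (Iso.refl _) (Iso.refl _)
      (by simp) (by simp) (by simp) (by simp)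
  exact Sga2.PureDescent.arrowIso h1 (Sga2.PureDescent.isPullback_preimage g j.opensRange) (Iso.refl _)
    (by simp)

end Groth.Agent.Sga2lef.H90.Glob
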