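import Groth.Agent.Picfga.RatPts
import Groth.Agent.S0536
import Mathlib.RingTheory.Henselian
import Mathlib.RingTheory.LocalRing.ResidueField.Ideal

/-!
# Sections of smooth algebras over strictly henselian local rings
-/

set_option autoImplicit false
universe u

open CategoryTheory CategoryTheory.Limits AlgebraicGeometry TensorProduct IsLocalRing

namespace Groth.Agent.Sga2lef.H90.HensSec

open Groth.Agent

/-- A nonzero smooth algebra over a separably closed field has a rational point. -/
theorem exists_algHom_field {k Q : Type u} [Field k] [IsSepClosed k] [CommRing Q] [Algebra k Q]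
    [Algebra.Smooth k Q] [Nontrivial Q] : Nonempty (Q →ₐ[k] k) := by
  let f : Spec (CommRingCat.of Q) ⟶ Spec (CommRingCat.of k) :=
    Spec.map (CommRingCat.ofHom (algebraMap k Q))
  have hf : Smooth f := by
    rw [HasRingHomProperty.Spec_iff (P := @Smooth)]
    exact RingHom.smooth_algebraMap.mpr inferInstance
  obtain ⟨x⟩ : Nonempty (Spec (CommRingCat.of Q)) := inferInstanceAs (Nonempty (PrimeSpectrum Q))
  obtain ⟨s, hs, -⟩ := Picfga.RatPts.exists_section_mem f ⊤ x trivial
  obtain ⟨φ, rfl⟩ : ∃ φ : CommRingCat.of Q ⟶ CommRingCat.of k, Spec.map φ = s :=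
    ⟨Spec.preimage s, Spec.map_preimage s⟩
  have h1 : CommRingCat.ofHom (algebraMap k Q) ≫ φ = 𝟙 _ := by
    apply Spec.map_injective
    rw [Spec.map_comp, hs, Spec.map_id]
  exact ⟨{ φ.hom with commutes' := fun a => congr(($h1).hom a) }⟩

/-- Sections of smooth algebras over strictly henselian local rings through a dense set of points of
the closed fibre. -/
theorem exists_section {R D : Type u} [CommRing R] [HenselianLocalRing R]
    [IsSepClosed (ResidueField R)] [CommRing D] [Algebra R D] [Algebra.Smooth R D] (q : Ideal D)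
    [q.IsPrime] (hq : q.comap (algebraMap R D) = maximalIdeal R) (g : D) (hg : g ∉ q) :
    ∃ σ : D →ₐ[R] R, IsUnit (σ g) := by
  let k := ResidueField R
  let E := Localization.Away g
  have hE : Algebra.Smooth R E := Algebra.Smooth.comp R D E
  have hQ : Algebra.Smooth k (k ⊗[R] E) := inferInstance
  -- nontriviality of the closed fibre
  let K := q.ResidueField
  let a : E →ₐ[D] K := IsLocalization.liftAlgHom (M := Submonoid.powers g) (f := Algebra.ofId D K) (by
    rintro ⟨_, n, rfl⟩
    have h1 : algebraMap D K g ≠ 0 := fun h => hg (Ideal.algebraMap_residueField_eq_zero.mp h)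
    have h2 : IsUnit (algebraMap D K g) := isUnit_iff_ne_zero.mpr h1
    change IsUnit (algebraMap D K (g ^ n))
    rw [map_pow]
    exact h2.pow n)
  have hk : ∀ r ∈ maximalIdeal R, algebraMap R K r = 0 := by
    intro r hr
    rw [← hq, Ideal.mem_comap] at hr
    rw [IsScalarTower.algebraMap_apply R D K]
    exact Ideal.algebraMap_residueField_eq_zero.mpr hr
  let b : k →ₐ[R] K :=
    { Ideal.Quotient.lift (maximalIdeal R) (algebraMap R K) hk with
      commutes' := fun r => rfl }
  have hnt : Nontrivial (k ⊗[R] E) :=
    (Algebra.TensorProduct.lift b (a.restrictScalars R) (fun _ _ => Commute.all _ _)).toRingHom.domain_nontrivial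
  obtain ⟨ρ⟩ := exists_algHom_field (k := k) (Q := k ⊗[R] E)
  let ρ' : E →ₐ[R] k := (ρ.restrictScalars R).comp Algebra.TensorProduct.includeRight
  obtain ⟨τ, -⟩ := S0536.result R E R (maximalIdeal R) ρ'
  refine ⟨τ.comp (IsScalarTower.toAlgHom R D E), ?_⟩
  exact (IsLocalization.Away.algebraMap_isUnit (S := E) g).map τ

end Groth.Agent.Sga2lef.H90.HensSec
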